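import Cfsg.Agent.S3695
import Cfsg.Agent.H855.DP.Psp
import Cfsg.Agent.H960.HT.Her

/-!
# S4247, the group `PSp_4(q)`, `q > 3` odd (helper855)

`psp4_no_exact` : `PSp_4(q)` is not a product `P H` with `P` of odd order in the normaliser of a Sylow `p`-subgroup and
`H` a `p'`-group (`p` the odd characteristic).

`P` fixes a point, so `H` is transitive on the points; by Hering's theorem (S3695) `H ≤ ΓL_1(q⁴)`. But `H` contains a
Sylow 2-subgroup, hence a conjugate of `Q_8 ≤ SL_2(q) × 1`, whose commutator `diag(-1, -1, 1, 1)` has a fixed vector.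
-/

set_option autoImplicit false

namespace Cfsg.Agent.H855.DP

open Module Subgroup Cfsg.Agent.H160.DP

/-- ring automorphisms of a finite field commute -/
theorem aut_comm {E : Type*} [Field E] [Finite E] (σ τ : E ≃+* E) (x : E) : σ (τ x) = τ (σ x) := by
  by_cases hx : x = 0
  · rw [hx, map_zero, map_zero, map_zero]
  obtain ⟨u, hu⟩ := IsCyclic.exists_generator (α := Eˣ)
  have key : ∀ ρ : E ≃+* E, ∃ n : ℤ, ρ (u : E) = ((u ^ n : Eˣ) : E) := by
    intro ρ
    obtain ⟨n, hn⟩ := Subgroup.mem_zpowers_iff.1 (hu (Units.map (ρ : E →* E) u))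
    exact ⟨n, by rw [hn]; rfl⟩
  have hz : ∀ (ρ : E ≃+* E) (n : ℤ) (y : Eˣ), ρ ((y ^ n : Eˣ) : E) = ((Units.map (ρ : E →* E) y ^ n : Eˣ) : E) := by
    intro ρ n y
    rw [← map_zpow]
    rfl
  obtain ⟨a, ha⟩ := key σ
  obtain ⟨b, hb⟩ := key τ
  have hσ : Units.map (σ : E →* E) u = u ^ a := Units.ext ha
  have hτ : Units.map (τ : E →* E) u = u ^ b := Units.ext hb
  obtain ⟨k, hk⟩ := Subgroup.mem_zpowers_iff.1 (hu (Units.mk0 x hx))
  have hx' : x = ((u ^ k : Eˣ) : E) := by rw [hk]; rfl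
  rw [hx', hz τ, hτ, hz σ k u, hσ, ← zpow_mul, ← zpow_mul, hz σ, hz τ, hσ, hτ, ← zpow_mul, ← zpow_mul]
  congr 2
  ring

section form

variable {F V : Type*} [Field F] [AddCommGroup V] [Module F V] {K : Type*} [Group K]
  {B : LinearMap.BilinForm F V} {ρ : K →* (V ≃ₗ[F] V)}

/-- scaled transvections -/
def sM (B : LinearMap.BilinForm F V) (a : F) (y : V) : Module.End F V :=
  LinearMap.id + a • (B.flip y).smulRight y

theorem sM_apply (a : F) (y v : V) : sM B a y v = v + (a * B v y) • y := by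
  show v + a • (B v y • y) = _
  rw [smul_smul]

theorem sM_iso (ha : ∀ v, B v v = 0) {a : F} {y : V} (u v : V) : B (sM B a y u) (sM B a y v) = B u v := by
  simp only [sM_apply, map_add, LinearMap.add_apply, map_smul, LinearMap.smul_apply, smul_eq_mul, ha]
  rw [skew ha y v]
  ring

/-- the group is transitive on the nonzero vectors -/
theorem tr_vec (ha : ∀ v, B v v = 0) (hnd : B.Nondegenerate)
    (hall : ∀ z : Module.End F V, (∀ u v, B (z u) (z v) = B u v) → ∃ g : K, ∀ v, ρ g v = z v)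
    {v w : V} (hv : v ≠ 0) (hw : w ≠ 0) : ∃ g : K, ρ g v = w := by
  have one : ∀ v w : V, B v w ≠ 0 → ∃ g : K, ρ g v = w := by
    intro v w h
    obtain ⟨g, hg⟩ := hall (sM B (B v w)⁻¹ (w - v)) (sM_iso ha)
    refine ⟨g, ?_⟩
    rw [hg, sM_apply, map_sub, ha, sub_zero, inv_mul_cancel₀ h, one_smul, add_sub_cancel]
  have ex : ∀ v : V, v ≠ 0 → ∃ u, B v u ≠ 0 := by
    intro v hv
    by_contra hcon
    push Not at hcon
    exact hv (hnd.1 v hcon)
  by_cases h : B v w = 0
  · obtain ⟨u, h1, h2⟩ : ∃ u, B v u ≠ 0 ∧ B w u ≠ 0 := by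
      obtain ⟨u1, hu1⟩ := ex v hv
      obtain ⟨u2, hu2⟩ := ex w hw
      by_cases h3 : B w u1 = 0
      · by_cases h4 : B v u2 = 0
        · refine ⟨u1 + u2, ?_, ?_⟩
          · rw [map_add, h4, add_zero]; exact hu1
          · rw [map_add, h3, zero_add]; exact hu2
        · exact ⟨u2, h4, hu2⟩
      · exact ⟨u1, hu1, h3⟩
    obtain ⟨g1, hg1⟩ := one v u h1
    obtain ⟨g2, hg2⟩ := one u w (by rw [skew ha, neg_ne_zero]; exact h2)
    exact ⟨g2 * g1, by rw [map_mul, LinearEquiv.mul_apply, hg1, hg2]⟩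
  · exact one v w h

/-- coordinates in a hyperbolic plane -/
def zM (B : LinearMap.BilinForm F V) (e f : V) (a b c d : F) : Module.End F V :=
  LinearMap.id + ((a - 1) • B.flip f - b • B.flip e).smulRight e + (c • B.flip f - (d - 1) • B.flip e).smulRight f

theorem zM_apply (e f : V) (a b c d : F) (v : V) : zM B e f a b c d v =
    v + ((a - 1) * B v f - b * B v e) • e + (c * B v f - (d - 1) * B v e) • f := rfl

variable {e f : V}

theorem zM_e (ha : ∀ v, B v v = 0) (hef : B e f = 1) (a b c d : F) (v : V) :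
    B (zM B e f a b c d v) e = -(c * B v f) + d * B v e := by
  have hfe : B f e = -1 := by rw [skew ha, hef]
  rw [zM_apply]
  simp only [map_add, LinearMap.add_apply, map_smul, LinearMap.smul_apply, smul_eq_mul, ha, hfe]
  ring

theorem zM_f (ha : ∀ v, B v v = 0) (hef : B e f = 1) (a b c d : F) (v : V) :
    B (zM B e f a b c d v) f = a * B v f - b * B v e := by
  rw [zM_apply]
  simp only [map_add, LinearMap.add_apply, map_smul, LinearMap.smul_apply, smul_eq_mul, ha, hef]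
  ring

theorem zM_iso (ha : ∀ v, B v v = 0) (hef : B e f = 1) {a b c d : F} (hdet : a * d - b * c = 1) (u v : V) :
    B (zM B e f a b c d u) (zM B e f a b c d v) = B u v := by
  have hfe : B f e = -1 := by rw [skew ha, hef]
  have h1 : B e v = - B v e := skew ha _ _
  have h2 : B f v = - B v f := skew ha _ _
  rw [zM_apply, zM_apply]
  simp only [map_add, LinearMap.add_apply, map_smul, LinearMap.smul_apply, smul_eq_mul, ha, hef, hfe, h1, h2]
  linear_combination (B u f * B v e - B u e * B v f) * (-hdet)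

/-- the product -/
theorem zM_mul (ha : ∀ v, B v v = 0) (hef : B e f = 1) (a b c d a' b' c' d' : F) (v : V) :
    zM B e f a b c d (zM B e f a' b' c' d' v) =
      zM B e f (a * a' + b * c') (a * b' + b * d') (c * a' + d * c') (c * b' + d * d') v := by
  rw [zM_apply, zM_e ha hef, zM_f ha hef, zM_apply, zM_apply]
  module

theorem zM_one (v : V) : zM B e f 1 0 0 1 v = v := by
  rw [zM_apply]
  simp

theorem isP_zpowers {g : K} (h : g ^ 4 = 1) : IsPGroup 2 (zpowers g) := by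
  rintro ⟨_, n, rfl⟩
  refine ⟨2, Subtype.ext ?_⟩
  show (g ^ n) ^ 4 = 1
  rw [← zpow_natCast, ← zpow_mul, mul_comm, zpow_mul, zpow_natCast, h, one_zpow]

/-- the quaternion group in the first factor of `SL_2 × SL_2` -/
theorem exists_q8 (hρ : Function.Injective ρ) (ha : ∀ v, B v v = 0)
    (hall : ∀ z : Module.End F V, (∀ u v, B (z u) (z v) = B u v) → ∃ g : K, ∀ v, ρ g v = z v)
    (hef : B e f = 1) {x y : F} (hxy : x * x + y * y = -1) :
    ∃ gA gB gT : K, IsPGroup 2 (zpowers gB ⊔ zpowers gA : Subgroup K) ∧ gA * gB = gT * (gB * gA) ∧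
      ∀ v, ρ gT v = zM B e f (-1) 0 0 (-1) v := by
  obtain ⟨gA, hA⟩ := hall (zM B e f 0 1 (-1) 0) (zM_iso ha hef (by ring))
  obtain ⟨gB, hB⟩ := hall (zM B e f x y y (-x)) (zM_iso ha hef (by linear_combination -hxy))
  obtain ⟨gT, hT⟩ := hall (zM B e f (-1) 0 0 (-1)) (zM_iso ha hef (by ring))
  have ext : ∀ g h : K, (∀ v, ρ g v = ρ h v) → g = h := fun g h hgh => hρ (LinearEquiv.ext hgh)
  have m : ∀ (g h : K) (v : V), ρ (g * h) v = ρ g (ρ h v) := fun g h v => by rw [map_mul, LinearEquiv.mul_apply]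
  have hAA : gA * gA = gT := ext _ _ fun v => by
    rw [m, hA, hA, zM_mul ha hef, hT]
    congr 2 <;> ring
  have hTT : gT * gT = 1 := ext _ _ fun v => by
    rw [m, hT, hT, zM_mul ha hef, map_one]
    have e1 : (-1 : F) * -1 + 0 * 0 = 1 := by ring
    have e2 : (-1 : F) * 0 + 0 * -1 = 0 := by ring
    have e3 : (0 : F) * -1 + -1 * 0 = 0 := by ring
    have e4 : (0 : F) * 0 + -1 * -1 = 1 := by ring
    rw [e1, e2, e3, e4, zM_one]
    rfl
  have hBB : gB * gB = gT := ext _ _ fun v => by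
    rw [m, hB, hB, zM_mul ha hef, hT]
    have e1 : x * x + y * y = -1 := hxy
    have e2 : x * y + y * -x = 0 := by ring
    have e3 : y * x + -x * y = 0 := by ring
    have e4 : y * y + -x * -x = -1 := by linear_combination hxy
    rw [e1, e2, e3, e4]
  have hAB : gA * gB = gT * (gB * gA) := ext _ _ fun v => by
    rw [m, m, m, hT, hA, hA, hB, hB, zM_mul ha hef, zM_mul ha hef, zM_mul ha hef]
    congr 2 <;> ring
  have hTA : gT * gA = gA * gT := by rw [← hAA, mul_assoc]
  have hA4 : gA ^ 4 = 1 := by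
    calc gA ^ 4 = gA * gA * (gA * gA) := by simp only [pow_succ, pow_zero, one_mul, mul_assoc]
      _ = 1 := by rw [hAA, hTT]
  have hB4 : gB ^ 4 = 1 := by
    calc gB ^ 4 = gB * gB * (gB * gB) := by simp only [pow_succ, pow_zero, one_mul, mul_assoc]
      _ = 1 := by rw [hBB, hTT]
  have hAi : gA⁻¹ = gT * gA := by
    rw [inv_eq_iff_mul_eq_one, ← mul_assoc, ← hTA, mul_assoc, hAA, hTT]
  have hc1 : gB * gA * gB⁻¹ = gA⁻¹ := by
    rw [mul_inv_eq_iff_eq_mul, hAi, mul_assoc, hAB, ← mul_assoc, hTT, one_mul]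
  have hc2 : gB⁻¹ * gA * gB = gA⁻¹ := by
    rw [← inv_inj, inv_inv]
    calc (gB⁻¹ * gA * gB)⁻¹ = gB⁻¹ * gA⁻¹ * gB := by group
      _ = gB⁻¹ * (gB * gA * gB⁻¹) * gB := by rw [hc1]
      _ = gA := by group
  refine ⟨gA, gB, gT, IsPGroup.to_sup_of_normal_right' (isP_zpowers hB4) (isP_zpowers hA4) ?_, hAB, hT⟩
  rw [zpowers_le, mem_normalizer_iff]
  intro h
  constructor
  · rintro ⟨n, rfl⟩
    refine ⟨-n, ?_⟩
    show gA ^ (-n) = gB * gA ^ n * gB⁻¹
    rw [← conj_zpow, hc1, inv_zpow, zpow_neg]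
  · rintro ⟨n, hn⟩
    refine ⟨-n, ?_⟩
    have hn' : gA ^ n = gB * h * gB⁻¹ := hn
    show gA ^ (-n) = h
    have e1 : h = gB⁻¹ * gA ^ n * gB := by rw [hn']; group
    have e2 : gB⁻¹ * gA ^ n * gB = (gB⁻¹ * gA * gB) ^ n := by
      have := conj_zpow (a := gB⁻¹) (b := gA) (i := n)
      rw [inv_inv] at this
      exact this.symm
    rw [e1, e2, hc2, inv_zpow, zpow_neg]

/-- commutators in `ΓL_1` are multiplications -/
theorem comm_gamma {E : Type*} [Field E] [Finite E] (t : V ≃+ E) {h1 h2 hc : V → V} (hc2 : Function.Surjective h1)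
    (hc1 : Function.Surjective h2) (hh : ∀ v, h1 (h2 v) = hc (h2 (h1 v))) {c1 c2 : E} (h10 : c1 ≠ 0) (h20 : c2 ≠ 0)
    {σ1 σ2 : E ≃+* E} (e1 : ∀ v, t (h1 v) = c1 * σ1 (t v)) (e2 : ∀ v, t (h2 v) = c2 * σ2 (t v)) {w : V} (hw : w ≠ 0)
    (hfix : hc w = w) : ∀ v, hc v = v := by
  have key : ∀ v, t (hc v) = (c1 * σ1 c2) / (c2 * σ2 c1) * t v := by
    intro v
    obtain ⟨u, rfl⟩ : ∃ u, h2 (h1 u) = v := by
      obtain ⟨u', hu'⟩ := hc1 v
      obtain ⟨u, hu⟩ := hc2 u'
      exact ⟨u, by rw [hu, hu']⟩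
    rw [← hh, e1, e2, e2, e1, map_mul, map_mul, aut_comm σ1 σ2]
    have h3 : σ2 c1 ≠ 0 := by rwa [Ne, map_eq_zero_iff σ2 σ2.injective]
    field_simp
  have hd : (c1 * σ1 c2) / (c2 * σ2 c1) = 1 := by
    have h1 := key w
    rw [hfix] at h1
    have h2 : t w ≠ 0 := by rwa [Ne, map_eq_zero_iff t t.injective]
    exact (mul_eq_right₀ h2).1 h1.symm
  intro v
  apply t.injective
  rw [key, hd, one_mul]

/-- `P` fixes a point -/
theorem exists_line {p : ℕ} [Fact p.Prime] [CharP F p] [Finite F] [FiniteDimensional F V] [Finite K]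
    (hρ : Function.Injective ρ) (ha : ∀ v, B v v = 0) (hnd : B.Nondegenerate)
    (hiso : ∀ (g : K) (u v : V), B (ρ g u) (ρ g v) = B u v)
    (hall : ∀ z : Module.End F V, (∀ u v, B (z u) (z v) = B u v) → ∃ g : K, ∀ v, ρ g v = z v)
    (hdim : finrank F V = 4) (P : Subgroup K)
    {U : Subgroup K} (hU : IsPGroup p U) (hmax : ∀ X : Subgroup K, IsPGroup p X → U ≤ X → X = U)
    (hPU : ∀ g ∈ P, ∀ u ∈ U, g * u * g⁻¹ ∈ U) :
    ∃ v0 : V, v0 ≠ 0 ∧ ∀ a ∈ P, ∃ c : F, ρ a v0 = c • v0 := by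
  classical
  have hfr : ∀ W : Submodule F V, finrank F (B.orthogonal W) = finrank F V - finrank F W :=
    LinearMap.BilinForm.finrank_orthogonal hnd
  have hperp : ∀ c : Submodule F V, (∀ u ∈ U, ∀ v ∈ c, ρ u v ∈ c) → ∀ u ∈ U, ∀ v ∈ B.orthogonal c,
      ρ u v ∈ B.orthogonal c := by
    intro c hc u hu v hv
    rw [mem_perp] at hv ⊢
    intro x hx
    have h1 := hiso u (ρ u⁻¹ x) v
    have h2 : ρ u (ρ u⁻¹ x) = x := by
      rw [← LinearEquiv.mul_apply, ← map_mul, mul_inv_cancel, map_one]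
      rfl
    rw [h2] at h1
    rw [h1]
    exact hv _ (hc _ (U.inv_mem hu) x hx)
  have htop : ∀ u ∈ U, ∀ v ∈ (⊤ : Submodule F V), ρ u v ∈ (⊤ : Submodule F V) := fun _ _ _ _ => Submodule.mem_top
  have hb : ∀ a : K, ∀ v ∈ (⊥ : Submodule F V), ρ a v ∈ (⊥ : Submodule F V) := by
    intro a v hv
    rw [Submodule.mem_bot] at hv ⊢
    rw [hv, map_zero]
  obtain ⟨c0, -, -, hc0, hUc⟩ := exists_succ hU (c := ⊥) (M := ⊤) (by
    rw [bot_lt_iff_ne_bot]
    intro h
    have h1 : finrank F (⊤ : Submodule F V) = finrank F (⊥ : Submodule F V) := by rw [h]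
    rw [finrank_top, finrank_bot] at h1
    omega) (fun u _ => hb u) htop
  rw [finrank_bot, zero_add] at hc0
  have ic : c0 ≤ B.orthogonal c0 :=
    iso_succ ha (c := ⊥) bot_le (fun v _ => by
      rw [mem_perp]
      intro x hx
      rw [(Submodule.mem_bot F).mp hx, map_zero]; rfl) bot_le (by rw [finrank_bot, hc0])
  obtain ⟨L0, hcL, hLc, hL0, hUL⟩ := exists_succ hU (c := c0) (M := B.orthogonal c0) (by
    refine lt_of_le_of_ne ic fun h => ?_
    have h1 := hfr c0
    rw [← h, hc0] at h1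
    omega) hUc (hperp _ hUc)
  rw [hc0] at hL0
  have iL : L0 ≤ B.orthogonal L0 := iso_succ ha hcL hLc ic (by rw [hL0, hc0])
  let C : ℕ → Submodule F V := fun i =>
    match i with
    | 0 => ⊥
    | 1 => c0
    | 2 => L0
    | 3 => L0
    | 4 => B.orthogonal L0
    | 5 => B.orthogonal L0
    | 6 => B.orthogonal c0
    | _ => ⊤
  have oo : ∀ W : Submodule F V, B.orthogonal (B.orthogonal W) = W :=
    LinearMap.BilinForm.orthogonal_orthogonal hnd (refl ha)
  have ob : B.orthogonal (⊥ : Submodule F V) = ⊤ := by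
    rw [eq_top_iff]
    intro v _
    rw [mem_perp]
    intro x hx
    rw [(Submodule.mem_bot F).mp hx, map_zero]; rfl
  have ot : B.orthogonal (⊤ : Submodule F V) = ⊥ := by rw [← ob, oo]
  have hC : SD B C := by
    refine ⟨monotone_nat_of_le_succ fun i => ?_, rfl, fun j hj => ?_⟩
    · match i with
      | 0 => exact bot_le
      | 1 => exact hcL
      | 2 => exact le_rfl
      | 3 => exact iL
      | 4 => exact le_rfl
      | 5 => exact LinearMap.BilinForm.orthogonal_le hcL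
      | 6 => exact le_top
      | (n + 7) => exact le_top
    · match j with
      | 0 => exact ob.symm
      | 1 => rfl
      | 2 => rfl
      | 3 => rfl
      | 4 => exact (oo L0).symm
      | 5 => exact (oo L0).symm
      | 6 => exact (oo c0).symm
      | 7 => exact ot.symm
      | (n + 8) => omega
  have hUC : ∀ u ∈ U, ∀ i, ∀ v ∈ C i, ρ u v ∈ C i := by
    intro u hu i
    match i with
    | 0 => exact hb u
    | 1 => exact hUc u hu
    | 2 => exact hUL u hu
    | 3 => exact hUL u hu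
    | 4 => exact hperp _ hUL u hu
    | 5 => exact hperp _ hUL u hu
    | 6 => exact hperp _ hUc u hu
    | (n + 7) => exact htop u hu
  obtain ⟨v0, hv0, hs⟩ := exists_gen (c := (⊥ : Submodule F V)) (L := c0) bot_le (by rw [hc0, finrank_bot])
  have hs' : ∀ v ∈ c0, ∃ a : F, v = a • v0 := by
    intro v hv
    obtain ⟨a, h⟩ := hs v hv
    exact ⟨a, by rwa [Submodule.mem_bot, sub_eq_zero] at h⟩
  have hv00 : v0 ≠ 0 := by
    rintro rfl
    have h1 : c0 = ⊥ := by
      rw [eq_bot_iff]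
      intro v hv
      obtain ⟨a, h⟩ := hs' v hv
      rw [h, smul_zero]
      exact Submodule.zero_mem _
    rw [h1, finrank_bot] at hc0
    omega
  have f1 : ∀ a ∈ P, ∀ v ∈ c0, ρ a v ∈ c0 := by
    refine flag_fixed hρ hU hmax hPU (C := C) (n := 7) rfl rfl hUC (c := ⊥) (fun a _ => hb a) (fun u _ => hb u) hUc
      (exists_gen bot_le (by rw [hc0, finrank_bot])) fun v hv => ?_
    exact mem_of_triv (j := 1) ha hnd hC hall (by omega) (y := v0) hv0 (by rwa [Submodule.mem_bot]) hv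
  exact ⟨v0, hv00, fun a ha => hs' _ (f1 a ha v0 hv0)⟩

/-- **The abstract version.** -/
theorem no_exact_four {p : ℕ} [Fact p.Prime] [CharP F p] (hp2 : p ≠ 2) [Fintype F] (h3 : 3 < Fintype.card F)
    [FiniteDimensional F V] [Finite K]
    (hρ : Function.Injective ρ) (ha : ∀ v, B v v = 0) (hnd : B.Nondegenerate)
    (hiso : ∀ (g : K) (u v : V), B (ρ g u) (ρ g v) = B u v)
    (hall : ∀ z : Module.End F V, (∀ u v, B (z u) (z v) = B u v) → ∃ g : K, ∀ v, ρ g v = z v)
    (hdim : finrank F V = 4) (P H : Subgroup K)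
    (hPH : ∀ g : K, ∃ a ∈ P, ∃ b ∈ H, g = a * b) (hH : ¬ p ∣ Nat.card H) (hodd : ¬ 2 ∣ H.index)
    {U : Subgroup K} (hU : IsPGroup p U) (hmax : ∀ X : Subgroup K, IsPGroup p X → U ≤ X → X = U)
    (hPU : ∀ g ∈ P, ∀ u ∈ U, g * u * g⁻¹ ∈ U) : False := by
  classical
  have hp := (Fact.out : p.Prime)
  have : Finite V := Module.finite_of_finite F
  obtain ⟨v0, hv0, hPv⟩ := exists_line hρ ha hnd hiso hall hdim P hU hmax hPU
  -- `H` is transitive on the points
  have hline : ∀ v : V, v ≠ 0 → ∃ b ∈ H, ∃ c : F, c ≠ 0 ∧ ρ b v = c • v0 := by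
    intro v hv
    obtain ⟨g, hg⟩ := tr_vec (ρ := ρ) ha hnd hall hv hv0
    obtain ⟨a, haP, b, hb, hab⟩ := hPH g
    obtain ⟨c, hc⟩ := hPv a⁻¹ (P.inv_mem haP)
    have h1 : ρ b v = c • v0 := by
      rw [← hc, ← hg, hab, map_mul, LinearEquiv.mul_apply, ← LinearEquiv.mul_apply (ρ a⁻¹), ← map_mul,
        inv_mul_cancel, map_one]
      rfl
    refine ⟨b, hb, c, ?_, h1⟩
    rintro rfl
    rw [zero_smul, LinearEquiv.map_eq_zero_iff] at h1
    exact hv h1
  let φ : K →* Equiv.Perm V :=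
    { toFun := fun g => (ρ g).toEquiv
      map_one' := by rw [map_one]; rfl
      map_mul' := fun g h => by rw [map_mul]; rfl }
  have hφ : ∀ g v, φ g v = ρ g v := fun g v => rfl
  have hHφ : ¬ p ∣ Nat.card (H.map φ) := fun h => hH (h.trans (card_map_dvd H φ))
  have hNdvd : ∀ N : Subgroup (H.map φ), ¬ p ∣ Nat.card N :=
    fun N h => hHφ (h.trans (Subgroup.card_subgroup_dvd_card N))
  have hqp : ∃ n : ℕ, 0 < n ∧ Fintype.card F = p ^ n := by
    obtain ⟨n, -, hn⟩ := FiniteField.card F p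
    exact ⟨n, n.pos, hn⟩
  obtain ⟨n, hn0, hn⟩ := hqp
  rcases Cfsg.Agent.S3695.result (K := F) (V := V) (Fintype.card F) 4 rfl hdim (by norm_num) (H.map φ)
    (by
      rintro _ ⟨h, -, rfl⟩ v w
      exact map_add (ρ h) v w)
    (by
      rintro _ ⟨h, -, rfl⟩
      exact ⟨RingEquiv.refl F, fun c v => map_smul (ρ h) c v⟩)
    (fun v w hv hw => by
      obtain ⟨b, hb, c, hc, hbv⟩ := hline v hv
      obtain ⟨b', hb', c', hc', hbw⟩ := hline w hw
      refine ⟨φ (b'⁻¹ * b), ⟨_, H.mul_mem (H.inv_mem hb') hb, rfl⟩, c * c'⁻¹, ?_⟩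
      rw [hφ, map_mul, LinearEquiv.mul_apply, hbv, map_smul]
      have h1 : ρ b'⁻¹ v0 = c'⁻¹ • w := by
        have h2 : v0 = c'⁻¹ • ρ b' w := by rw [hbw, smul_smul, inv_mul_cancel₀ hc', one_smul]
        rw [h2, map_smul, ← LinearEquiv.mul_apply, ← map_mul, inv_mul_cancel, map_one]
        rfl
      rw [h1, smul_smul]) with
    ⟨a, b, E, _, _, hab, hE, N, hNn, hcase⟩ | ⟨E, _, _, t, hE, he⟩ | ⟨h, -⟩ | ⟨h, -⟩ | ⟨-, h, -⟩ | ⟨-, h, -⟩ | ⟨h, -⟩
  · have hcE : CharP E p := by
      refine charP_of_card_eq_prime_pow (f := n * b) ?_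
      rw [hE, hn, pow_mul]
    rcases hcase with ⟨ha', ⟨e⟩⟩ | ⟨m, ham, hm, ⟨e⟩⟩ | ⟨ha6, -⟩ | ⟨ha6, -⟩
    · apply hNdvd N
      rw [Nat.card_congr e.toEquiv]
      exact Cfsg.Agent.H960.HT.dvd_card_sl ha'
    · apply hNdvd N
      rw [Nat.card_congr e.toEquiv]
      exact Cfsg.Agent.H960.HT.dvd_card_sp hm
    · rw [ha6] at hab
      omega
    · rw [ha6] at hab
      omega
  · -- `ΓL_1`
    have hcF : Fintype.card F % 2 = 1 := by
      rw [hn, ← Nat.odd_iff]
      exact (hp.odd_of_ne_two hp2).pow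
    obtain ⟨x, y, hxy⟩ := FiniteField.exists_root_sum_quadratic (R := F) (f := Polynomial.X ^ 2)
      (g := Polynomial.X ^ 2 - Polynomial.C (-1)) (Polynomial.degree_X_pow 2)
      (Polynomial.degree_X_pow_sub_C (by norm_num) _) hcF
    have hxy' : x * x + y * y = -1 := by
      simp only [Polynomial.eval_pow, Polynomial.eval_X, Polynomial.eval_sub, Polynomial.eval_C] at hxy
      linear_combination hxy
    obtain ⟨f0, hf0⟩ : ∃ f0, B v0 f0 ≠ 0 := by
      by_contra hcon
      push Not at hcon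
      exact hv0 (hnd.1 v0 hcon)
    have hef : B v0 ((B v0 f0)⁻¹ • f0) = 1 := by
      rw [map_smul, smul_eq_mul, inv_mul_cancel₀ hf0]
    obtain ⟨gA, gB, gT, hQ, hAB, hT⟩ := exists_q8 (ρ := ρ) hρ ha hall hef hxy'
    set f1 : V := (B v0 f0)⁻¹ • f0 with hf1
    -- a conjugate of the quaternion group is in `H`
    obtain ⟨g, hg⟩ : ∃ g : K, ∀ q ∈ (zpowers gB ⊔ zpowers gA : Subgroup K), g⁻¹ * q * g ∈ H := by
      have : Fact (Nat.Prime 2) := ⟨Nat.prime_two⟩
      obtain ⟨z, hz⟩ := hQ.nonempty_fixed_point_of_prime_not_dvd_card (K ⧸ H) hodd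
      obtain ⟨g, rfl⟩ := QuotientGroup.mk_surjective z
      refine ⟨g, fun q hq => ?_⟩
      have h1 : ((q * g : K) : K ⧸ H) = (g : K ⧸ H) := hz ⟨q, hq⟩
      rw [eq_comm, QuotientGroup.eq] at h1
      rwa [← mul_assoc] at h1
    have hA := hg gA (Subgroup.mem_sup_right (mem_zpowers gA))
    have hB := hg gB (Subgroup.mem_sup_left (mem_zpowers gB))
    obtain ⟨c1, σ1, e1⟩ := he (φ (g⁻¹ * gA * g)) ⟨_, hA, rfl⟩
    obtain ⟨c2, σ2, e2⟩ := he (φ (g⁻¹ * gB * g)) ⟨_, hB, rfl⟩
    have nz : ∀ (k : K) (c : E) (σ : E ≃+* E), (∀ v, t (φ k v) = c * σ (t v)) → c ≠ 0 := by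
      rintro k c σ h rfl
      have h1 := h v0
      rw [zero_mul, map_eq_zero_iff t t.injective, hφ, LinearEquiv.map_eq_zero_iff] at h1
      exact hv0 h1
    -- a vector fixed by `T`
    obtain ⟨w, hw0, hw1, hw2⟩ : ∃ w : V, w ≠ 0 ∧ B w v0 = 0 ∧ B w f1 = 0 := by
      have h1 := hiso 1 v0 v0
      let W : Submodule F V := Submodule.span F {v0, f1}
      have hW : finrank F W ≤ 2 := (finrank_span_le_card ({v0, f1} : Set V)).trans (by
        rw [Set.toFinset_card]
        exact (Fintype.card_le_of_injective (fun x : ({v0, f1} : Set V) => if (x : V) = v0 then (0 : Fin 2) else 1) (by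
          rintro ⟨x, hx⟩ ⟨y, hy⟩ hxy
          simp only [Set.mem_insert_iff, Set.mem_singleton_iff] at hx hy
          apply Subtype.ext
          rcases hx with rfl | rfl <;> rcases hy with rfl | rfl
          · rfl
          · by_contra hne
            simp only [if_true] at hxy
            split_ifs at hxy with h
            · exact hne h.symm
            · exact absurd hxy (by decide)
          · by_contra hne
            simp only [if_true] at hxy
            split_ifs at hxy with h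
            · exact hne h
            · exact absurd hxy (by decide)
          · rfl)).trans (by simp))
      have h2 : finrank F (B.orthogonal W) = finrank F V - finrank F W := LinearMap.BilinForm.finrank_orthogonal hnd W
      have h4 : B.orthogonal W ≠ ⊥ := by
        intro h
        rw [h, finrank_bot] at h2
        omega
      obtain ⟨w, hw, hw0⟩ := Submodule.exists_mem_ne_zero_of_ne_bot h4
      rw [mem_perp] at hw
      have h5 : B v0 w = 0 := hw v0 (Submodule.subset_span (by simp))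
      have h6 : B f1 w = 0 := hw f1 (Submodule.subset_span (by simp))
      exact ⟨w, hw0, by rw [skew ha, h5, neg_zero], by rw [skew ha, h6, neg_zero]⟩
    have hTw : ρ gT w = w := by
      rw [hT, zM_apply, hw1, hw2]
      simp
    have hsurj : ∀ k : K, Function.Surjective (φ k : V → V) := fun k => (φ k).surjective
    have hcomm := comm_gamma (h1 := φ (g⁻¹ * gA * g)) (h2 := φ (g⁻¹ * gB * g)) (hc := φ (g⁻¹ * gT * g)) t
      (hsurj _) (hsurj _) (fun v => by
        rw [← Equiv.Perm.mul_apply, ← Equiv.Perm.mul_apply (φ (g⁻¹ * gB * g)), ← Equiv.Perm.mul_apply,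
          ← map_mul, ← map_mul, ← map_mul]
        congr 2
        calc g⁻¹ * gA * g * (g⁻¹ * gB * g) = g⁻¹ * (gA * gB) * g := by group
          _ = g⁻¹ * (gT * (gB * gA)) * g := by rw [hAB]
          _ = _ := by group) (nz _ _ _ e1) (nz _ _ _ e2) e1 e2 (w := ρ g⁻¹ w)
      (by rwa [Ne, LinearEquiv.map_eq_zero_iff]) (by
        rw [hφ, map_mul, map_mul, LinearEquiv.mul_apply, LinearEquiv.mul_apply, ← LinearEquiv.mul_apply (ρ g),
          ← map_mul, mul_inv_cancel, map_one]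
        change ρ g⁻¹ (ρ gT w) = _
        rw [hTw])
    have h5 := hcomm (ρ g⁻¹ v0)
    rw [hφ, map_mul, map_mul, LinearEquiv.mul_apply, LinearEquiv.mul_apply, ← LinearEquiv.mul_apply (ρ g),
      ← map_mul, mul_inv_cancel, map_one] at h5
    have h6 : ρ gT v0 = v0 := (ρ g⁻¹).injective h5
    rw [hT, zM_apply, hef, ha] at h6
    have h7 : (2 : F) • v0 = 0 := by
      have h8 : v0 + ((-1 - 1) * 1 - 0 * 0 : F) • v0 + (0 * 1 - (-1 - 1) * 0 : F) • f1 - v0 = 0 := by
        rw [h6, sub_self]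
      have h9 : v0 + ((-1 - 1) * 1 - 0 * 0 : F) • v0 + (0 * 1 - (-1 - 1) * 0 : F) • f1 - v0 = -((2 : F) • v0) := by
        module
      rw [h9, neg_eq_zero] at h8
      exact h8
    rcases smul_eq_zero.1 h7 with h8 | h8
    · have h9 : ((2 : ℕ) : F) = 0 := by exact_mod_cast h8
      rw [CharP.cast_eq_zero_iff F p] at h9
      exact hp2 ((Nat.prime_dvd_prime_iff_eq hp Nat.prime_two).1 h9)
    · exact hv0 h8
  · omega
  · omega
  · omega
  · omega
  · omega

end form

section psp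

open Cfsg.Agent.H170.HL Cfsg.Agent.H170.HL.SpRow Matrix Cfsg.Agent.H167.OP

variable {F : Type*} [Field F]

/-- the index of a factor -/
theorem index_dvd {S : Type*} [Group S] [Finite S] {P H : Subgroup S} (hPH : ∀ g, ∃ a ∈ P, ∃ b ∈ H, g = a * b) :
    H.index ∣ Nat.card P := by
  have h1 : Nat.card (MulAction.orbit P ((1 : S) : S ⧸ H)) = H.index := by
    have h2 : MulAction.orbit P ((1 : S) : S ⧸ H) = Set.univ := by
      rw [Set.eq_univ_iff_forall]
      intro z
      obtain ⟨g, rfl⟩ := QuotientGroup.mk_surjective z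
      obtain ⟨a, ha, b, hb, rfl⟩ := hPH g
      refine ⟨⟨a, ha⟩, ?_⟩
      show ((a * 1 : S) : S ⧸ H) = ((a * b : S) : S ⧸ H)
      rw [QuotientGroup.eq, mul_one, inv_mul_cancel_left]
      exact hb
    rw [h2, Nat.card_univ]
    rfl
  rw [← h1, Nat.card_congr (MulAction.orbitEquivQuotientStabilizer P ((1 : S) : S ⧸ H))]
  exact Subgroup.card_quotient_dvd_card _

theorem psp4_no_exact [Fintype F] {p : ℕ} [Fact p.Prime] [CharP F p] (hp2 : p ≠ 2) (h3 : 3 < Fintype.card F)
    (P H : Subgroup (Cfsg.PSp 2 F)) (hPH : ∀ g, ∃ a ∈ P, ∃ b ∈ H, g = a * b) (hodd : Odd (Nat.card P))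
    (T : Sylow p (Cfsg.PSp 2 F))
    (hT : P ≤ normalizer ((T : Subgroup (Cfsg.PSp 2 F)) : Set (Cfsg.PSp 2 F))) (hH : ¬ p ∣ Nat.card H) : False := by
  classical
  have hfin : Finite (symplecticGroup (Fin 2) F) := inferInstance
  have h2 : (2 : F) ≠ 0 := by
    intro h
    have h1 : ((2 : ℕ) : F) = 0 := by exact_mod_cast h
    rw [CharP.cast_eq_zero_iff F p] at h1
    exact hp2 ((Nat.prime_dvd_prime_iff_eq (Fact.out : p.Prime) Nat.prime_two).mp h1)
  let f : symplecticGroup (Fin 2) F →* Cfsg.PSp 2 F :=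
    QuotientGroup.mk' (Subgroup.center (symplecticGroup (Fin 2) F))
  have hf : Function.Surjective f := QuotientGroup.mk'_surjective _
  have hfS : Finite (Cfsg.PSp 2 F) := Finite.of_surjective f hf
  have hfk : ∀ z, f z = 1 ↔ z ∈ Subgroup.center (symplecticGroup (Fin 2) F) := fun z => by
    rw [← QuotientGroup.eq_one_iff]
    rfl
  have hker : ∀ z, f z = 1 → ∀ x, z * x = x * z := fun z hz x =>
    (Subgroup.mem_center_iff.mp ((hfk z).mp hz) x).symm
  have hkp : ¬ p ∣ Nat.card f.ker := by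
    intro h
    obtain ⟨z, hz⟩ := exists_prime_orderOf_dvd_card' p h
    have h1 := Cfsg.Agent.ClassicalGeometry.SympInvolutions.center_eq ((hfk z).mp z.2)
    have h3 : z ^ 2 = 1 := by
      apply Subtype.ext
      apply Subtype.ext
      rw [pow_two]
      show ((z : symplecticGroup (Fin 2) F) : Matrix (Fin 2 ⊕ Fin 2) (Fin 2 ⊕ Fin 2) F) *
        ((z : symplecticGroup (Fin 2) F) : Matrix (Fin 2 ⊕ Fin 2) (Fin 2 ⊕ Fin 2) F) = 1
      rcases h1 with h | h
      · rw [h, one_mul]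
      · rw [h, neg_mul_neg, one_mul]
    have h4 := orderOf_dvd_of_pow_eq_one h3
    rw [hz] at h4
    exact hp2 ((Nat.prime_dvd_prime_iff_eq (Fact.out : p.Prime) Nat.prime_two).mp h4)
  obtain ⟨P', H', U, h1, h3', h4, -, hH', -⟩ := exists_lift f hf hker hkp hPH hH T hT
  have ha : ∀ v, frm 2 F v v = 0 := by
    intro v
    have h5 := frm_sym (F := F) (m := 2) v v
    have h6 : (2 : F) * frm 2 F v v = 0 := by linear_combination h5
    exact (mul_eq_zero.mp h6).resolve_left h2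
  have hnd : LinearMap.BilinForm.Nondegenerate (frm 2 F : LinearMap.BilinForm F (Fin 2 ⊕ Fin 2 → F)) := by
    refine ⟨fun x hx => frm_nondeg x fun y => ?_, fun x hx => frm_nondeg x hx⟩
    rw [frm_sym, hx y, mul_zero]
  refine no_exact_four (ρ := spRep 2 F) (B := frm 2 F) hp2 h3 ?_ ha hnd (fun g u v => frm_iso g u v) (fun z hz => ?_)
    ?_ P' H' h1 h3' ?_ U.isPGroup' (fun X hX hUX => U.is_maximal' hX hUX) h4
  · intro a b hab
    refine rep_injective (inc_injective (m := 2) (F := F)) ?_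
    apply LinearMap.ext
    intro v
    rw [← spRep_apply, ← spRep_apply, hab]
  · obtain ⟨A, hA⟩ := exists_of_iso z hz
    exact ⟨A, fun v => by rw [spRep_apply, hA]⟩
  · rw [Module.finrank_fintype_fun_eq_card, Fintype.card_sum, Fintype.card_fin]
  · rw [hH', Subgroup.index_comap_of_surjective _ hf]
    intro h
    exact (Nat.not_even_iff_odd.2 hodd) (even_iff_two_dvd.2 (h.trans (index_dvd hPH)))

end psp

end Cfsg.Agent.H855.DP
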